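import Groth.Agent.Lie3.Prime
import Mathlib.RingTheory.Flat.TorsionFree

/-!
Flatness over the integers and reducedness.
-/

set_option autoImplicit false

namespace Groth.Agent.Lie3

open MvPolynomial

lemma int_notMem {I : Ideal (Lie3Mod.D ℤ)}
    (hI : ∀ x ∈ I, constantCoeff x = 0) {m : ℤ} (hm : m ≠ 0) : (C m : Lie3Mod.D ℤ) ∉ I := fun h => by
  have := hI _ h
  rw [constantCoeff_C] at this
  exact hm this

lemma const_idJ : ∀ x ∈ Lie3Mod.idJ ℤ, constantCoeff x = 0 := by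
  have hle : Lie3Mod.idJ ℤ ≤ RingHom.ker (constantCoeff : Lie3Mod.D ℤ →+* ℤ) := by
    refine Ideal.span_le.mpr ?_
    simp [Set.insert_subset_iff, Lie3Mod.Q1, Lie3Mod.Q2, Lie3Mod.Q3, Lie3Mod.detM]
  exact fun x hx => hle hx

lemma const_idL : ∀ x ∈ Lie3Mod.idL ℤ, constantCoeff x = 0 := by
  have hle : Lie3Mod.idL ℤ ≤ RingHom.ker (constantCoeff : Lie3Mod.D ℤ →+* ℤ) := by
    refine Ideal.span_le.mpr ?_
    simp [Set.insert_subset_iff, Lie3Mod.L1, Lie3Mod.L2, Lie3Mod.L3]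
  exact fun x hx => hle hx

lemma flat_of_int {I : Ideal (Lie3Mod.D ℤ)}
    (h : ∀ m : ℤ, m ≠ 0 → ∀ x, C m * x ∈ I → x ∈ I) : Module.Flat ℤ (Lie3Mod.D ℤ ⧸ I) := by
  rw [IsDedekindDomain.flat_iff_torsion_eq_bot, eq_bot_iff]
  intro q hq
  obtain ⟨⟨m, hm⟩, hmq⟩ := hq
  obtain ⟨x, rfl⟩ := Ideal.Quotient.mk_surjective q
  rw [Submodule.mem_bot, Ideal.Quotient.eq_zero_iff_mem]
  refine h m (nonZeroDivisors.ne_zero hm) x ?_
  rw [← Ideal.Quotient.eq_zero_iff_mem, map_mul]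
  change m • (Ideal.Quotient.mk I x) = 0 at hmq
  rw [zsmul_eq_mul] at hmq
  simpa using hmq

lemma flat_J : Module.Flat ℤ (Lie3Mod.D ℤ ⧸ Lie3Mod.idJ ℤ) :=
  flat_of_int fun _ hm _ hx =>
    ((idJ_isPrime ℤ).mem_or_mem hx).resolve_left (int_notMem const_idJ hm)

lemma flat_I : Module.Flat ℤ (Lie3Mod.D ℤ ⧸ Lie3Mod.idI ℤ) :=
  flat_of_int fun _ hm _ hx => by
    rw [idI_eq_inf] at hx ⊢
    exact ⟨((idJ_isPrime ℤ).mem_or_mem hx.1).resolve_left (int_notMem const_idJ hm),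
      ((idL_isPrime ℤ).mem_or_mem hx.2).resolve_left (int_notMem const_idL hm)⟩

lemma idI_isRadical : (Lie3Mod.idI ℤ).IsRadical := by
  rw [idI_eq_inf]
  exact (idJ_isPrime ℤ).isRadical.inf (idL_isPrime ℤ).isRadical

end Groth.Agent.Lie3
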