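import Mathlib.Algebra.MvPolynomial.Equiv
import Mathlib.Algebra.MvPolynomial.CommRing
import Mathlib.RingTheory.Polynomial.Basic
import Mathlib.RingTheory.MvPolynomial.Ideal
import Mathlib.Tactic.LinearCombination

/-!
Elements linear in one variable and non-zero-divisors modulo ideals of a polynomial ring.
-/

set_option autoImplicit false

namespace Groth.Agent.Lie3

open MvPolynomial

variable {A : Type*} [CommRing A] {n : ℕ}

/-- Exchanging the order of two elements that are regular modulo an ideal. -/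
lemma nzd_swap {R : Type*} [CommRing R] {I : Ideal R} {b q : R}
    (hb : ∀ x, b * x ∈ I → x ∈ I)
    (hq : ∀ x, q * x ∈ I ⊔ Ideal.span {b} → x ∈ I ⊔ Ideal.span {b}) :
    ∀ x, b * x ∈ I ⊔ Ideal.span {q} → x ∈ I ⊔ Ideal.span {q} := by
  intro x hx
  obtain ⟨y, hy, z, hz, e⟩ := Submodule.mem_sup.mp hx
  obtain ⟨c, rfl⟩ := Ideal.mem_span_singleton'.mp hz
  have h1 : q * c ∈ I ⊔ Ideal.span {b} := by
    rw [show q * c = b * x - y by rw [← e]; ring]
    exact sub_mem (Ideal.mem_sup_right (Ideal.mem_span_singleton'.mpr ⟨x, mul_comm x b⟩))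
      (Ideal.mem_sup_left hy)
  obtain ⟨y', hy', z', hz', rfl⟩ := Submodule.mem_sup.mp (hq c h1)
  obtain ⟨c', rfl⟩ := Ideal.mem_span_singleton'.mp hz'
  have h2 : b * (x - c' * q) ∈ I := by
    rw [show b * (x - c' * q) = y + y' * q by linear_combination -e]
    exact add_mem hy (I.mul_mem_right q hy')
  rw [show x = (x - c' * q) + c' * q by ring]
  exact add_mem (Ideal.mem_sup_left (hb _ h2))
    (Ideal.mem_sup_right (Ideal.mem_span_singleton'.mpr ⟨c', rfl⟩))

section Var

variable (k : Fin n)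

/-- The polynomial ring as polynomials in the `k`-th variable. -/
noncomputable def split :
    MvPolynomial (Fin n) A ≃ₐ[A] Polynomial (MvPolynomial {b : Fin n // b ≠ k} A) :=
  (renameEquiv A (Equiv.optionSubtypeNe k).symm).trans (optionEquivLeft A _)

lemma split_X_self : split k (X k : MvPolynomial (Fin n) A) = Polynomial.X := by
  simp [split, optionEquivLeft_X_none]

lemma split_X_ne {j : Fin n} (h : j ≠ k) :
    split k (X j : MvPolynomial (Fin n) A) = Polynomial.C (X ⟨j, h⟩) := by
  simp [split, Equiv.optionSubtypeNe_symm_of_ne h, optionEquivLeft_X_some]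

/-- Not involving the variable `k`. -/
def Free (p : MvPolynomial (Fin n) A) : Prop :=
  ∃ p₀, split k p = Polynomial.C p₀

variable {k}

lemma free_X {j : Fin n} (h : j ≠ k) : Free k (X j : MvPolynomial (Fin n) A) :=
  ⟨_, split_X_ne k h⟩

lemma Free.add {p q : MvPolynomial (Fin n) A} (hp : Free k p) (hq : Free k q) : Free k (p + q) := by
  obtain ⟨a, ha⟩ := hp; obtain ⟨b, hb⟩ := hq
  exact ⟨a + b, by rw [map_add, ha, hb, map_add]⟩

lemma Free.sub {p q : MvPolynomial (Fin n) A} (hp : Free k p) (hq : Free k q) : Free k (p - q) := by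
  obtain ⟨a, ha⟩ := hp; obtain ⟨b, hb⟩ := hq
  exact ⟨a - b, by rw [map_sub, ha, hb, map_sub]⟩

lemma Free.mul {p q : MvPolynomial (Fin n) A} (hp : Free k p) (hq : Free k q) : Free k (p * q) := by
  obtain ⟨a, ha⟩ := hp; obtain ⟨b, hb⟩ := hq
  exact ⟨a * b, by rw [map_mul, ha, hb, map_mul]⟩

lemma Free.neg {p : MvPolynomial (Fin n) A} (hp : Free k p) : Free k (-p) := by
  obtain ⟨a, ha⟩ := hp
  exact ⟨-a, by rw [map_neg, ha, map_neg]⟩

lemma free_zero : Free k (0 : MvPolynomial (Fin n) A) := ⟨0, by simp⟩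

lemma mem_span_iff_coeff {S : Set (MvPolynomial (Fin n) A)} (hS : ∀ s ∈ S, Free k s)
    (x : MvPolynomial (Fin n) A) :
    x ∈ Ideal.span S ↔
      ∀ m, (split k).symm (Polynomial.C ((split k x).coeff m)) ∈ Ideal.span S := by
  let ψ : MvPolynomial {b : Fin n // b ≠ k} A →+* MvPolynomial (Fin n) A :=
    (split k).symm.toAlgHom.toRingHom.comp Polynomial.C
  constructor
  · intro hx
    have hle : Ideal.span S ≤
        (((Ideal.span S).comap ψ).map Polynomial.C).comap (split k).toAlgHom.toRingHom := by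
      refine Ideal.span_le.mpr fun s hs => ?_
      obtain ⟨s₀, hs₀⟩ := hS s hs
      show split k s ∈ ((Ideal.span S).comap ψ).map Polynomial.C
      rw [hs₀]
      refine Ideal.mem_map_of_mem _ ?_
      show (split k).symm (Polynomial.C s₀) ∈ Ideal.span S
      rw [← hs₀, AlgEquiv.symm_apply_apply]
      exact Ideal.subset_span hs
    exact fun m => Ideal.mem_map_C_iff.mp (hle hx) m
  · intro h
    rw [← (split k).symm_apply_apply x, (split k x).as_sum_range_C_mul_X_pow, map_sum]
    refine Ideal.sum_mem _ fun m _ => ?_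
    rw [map_mul]
    exact Ideal.mul_mem_right _ _ (h m)

/-- An element `p X_k + r`, where `p` is regular and `r` kills what `p` kills. -/
lemma linear_ann {S T : Set (MvPolynomial (Fin n) A)} (hS : ∀ s ∈ S, Free k s)
    (hT : ∀ s ∈ T, Free k s) {q p r : MvPolynomial (Fin n) A} (hp : Free k p) (hr : Free k r)
    (hq : q = p * X k + r)
    (h1 : ∀ x, p * x ∈ Ideal.span S → x ∈ Ideal.span T)
    (h2 : ∀ x ∈ Ideal.span T, r * x ∈ Ideal.span S) :
    ∀ x, q * x ∈ Ideal.span S → x ∈ Ideal.span T := by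
  intro x hx
  obtain ⟨p₀, hp₀⟩ := hp
  obtain ⟨r₀, hr₀⟩ := hr
  rw [mem_span_iff_coeff hT]
  rw [mem_span_iff_coeff hS] at hx
  set f := split k x
  have hcoeff : ∀ m, (split k (q * x)).coeff (m + 1) = p₀ * f.coeff m + r₀ * f.coeff (m + 1) := by
    intro m
    rw [map_mul, hq, map_add, map_mul, split_X_self, hp₀, hr₀, add_mul, Polynomial.coeff_add,
      Polynomial.coeff_C_mul, mul_assoc, Polynomial.coeff_C_mul, Polynomial.coeff_X_mul]
  intro m
  induction hd : f.natDegree + 1 - m generalizing m with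
  | zero =>
    rw [Polynomial.coeff_eq_zero_of_natDegree_lt (by omega), map_zero, map_zero]
    exact zero_mem _
  | succ d ih =>
    refine h1 _ ?_
    have h := hx (m + 1)
    rw [hcoeff, map_add, map_mul, map_mul, map_add, map_mul, map_mul, ← hp₀, ← hr₀,
      AlgEquiv.symm_apply_apply, AlgEquiv.symm_apply_apply] at h
    exact (Submodule.add_mem_iff_left _ (h2 _ (ih (m + 1) (by omega)))).mp h

/-- An element `p X_k + r` with `p` regular is regular. -/
lemma linear_nzd {S : Set (MvPolynomial (Fin n) A)} (hS : ∀ s ∈ S, Free k s)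
    {q p r : MvPolynomial (Fin n) A} (hp : Free k p) (hr : Free k r) (hq : q = p * X k + r)
    (h1 : ∀ x, p * x ∈ Ideal.span S → x ∈ Ideal.span S) :
    ∀ x, q * x ∈ Ideal.span S → x ∈ Ideal.span S :=
  linear_ann hS hS hp hr hq h1 fun _ hx => Ideal.mul_mem_left _ _ hx

end Var

/-- A variable is regular modulo other variables. -/
lemma X_nzd {j : Fin n} {s : Set (Fin n)} (h : j ∉ s) :
    ∀ x : MvPolynomial (Fin n) A, X j * x ∈ Ideal.span (X '' s) → x ∈ Ideal.span (X '' s) := by
  intro x hx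
  rw [mem_ideal_span_X_image] at hx ⊢
  intro m hm
  obtain ⟨i, hi, hi'⟩ := hx (Finsupp.single j 1 + m)
    (by rw [mem_support_iff, coeff_X_mul]; exact mem_support_iff.mp hm)
  refine ⟨i, hi, ?_⟩
  rwa [Finsupp.add_apply, Finsupp.single_eq_of_ne (fun e : i = j => h (e ▸ hi)), zero_add] at hi'

end Groth.Agent.Lie3
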