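import Groth.Agent.Lie3.LinVar

/-!
The three Jacobi quadrics of a based three-dimensional Lie algebra, in coordinates adapted to the
three linear forms: regular elements, and the colon ideal by one linear form.
-/

set_option autoImplicit false

namespace Groth.Agent.Lie3

open MvPolynomial

variable {A : Type*} [CommRing A]

local notation "P" => MvPolynomial (Fin 9) A
local notation "l₁" => (X 0 : P)
local notation "l₂" => (X 1 : P)
local notation "cc" => (X 2 : P)
local notation "l₃" => (X 3 : P)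
local notation "ee" => (X 4 : P)
local notation "ff" => (X 5 : P)
local notation "gg" => (X 6 : P)
local notation "hh" => (X 7 : P)
local notation "ii" => (X 8 : P)

/-- First quadric. -/
noncomputable def R1 : P := -(l₂ * gg) + (hh * l₁ + ii * l₃)
/-- Second quadric. -/
noncomputable def R2 : P := -(ee * l₁) - hh * l₂ + (l₂ - ff) * l₃
/-- Third quadric. -/
noncomputable def R3 : P := -(ff * l₁) - ii * l₂ + cc * l₃
/-- Second quadric modulo the second linear form. -/
noncomputable def q2 : P := -(ee * l₁) - ff * l₃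
/-- Third quadric modulo the second linear form. -/
noncomputable def q3 : P := -(ff * l₁) + cc * l₃
/-- The minor. -/
noncomputable def dlt : P := -(ee * cc) - ff * ff
/-- The determinant. -/
noncomputable def Det : P :=
  -(cc * hh ^ 2) + gg * (l₂ - ff) * ff + ee * ii ^ 2 - gg * ee * cc + hh * (l₂ - ff) * ii -
    ii * hh * ff

variable (A) in
/-- The Jacobi ideal. -/
noncomputable def I3 : Ideal P := Ideal.span {R1, R2, R3}
variable (A) in
/-- The ideal of the component outside the linear forms. -/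
noncomputable def J3 : Ideal P := Ideal.span {R1, R2, R3, Det}
variable (A) in
/-- The ideal of linear forms. -/
noncomputable def L3' : Ideal P := Ideal.span {l₁, l₂, l₃}

lemma freeX {j k : Fin 9} (h : j ≠ k) : Free k (X j : P) := free_X h

lemma span_singleton_mem {x y : P} : y * x ∈ Ideal.span {x} :=
  Ideal.mul_mem_left _ _ (Ideal.mem_span_singleton_self x)

lemma nzd_X (j : Fin 9) : ∀ x : P, X j * x ∈ (⊥ : Ideal P) → x ∈ (⊥ : Ideal P) := by
  simpa using X_nzd (A := A) (j := j) (s := ∅) (Set.notMem_empty j)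

lemma nzd_X1 {j k : Fin 9} (h : j ≠ k) :
    ∀ x : P, X j * x ∈ Ideal.span {(X k : P)} → x ∈ Ideal.span {(X k : P)} := by
  simpa using X_nzd (A := A) (j := j) (s := {k}) (by simpa using h)

lemma nzd_X2 {j k l : Fin 9} (h : j ≠ k) (h' : j ≠ l) :
    ∀ x : P, X j * x ∈ Ideal.span {(X k : P), X l} → x ∈ Ideal.span {(X k : P), X l} := by
  simpa [Set.image_insert_eq] using X_nzd (A := A) (j := j) (s := {k, l}) (by simp [h, h'])

lemma q3_nzd_l2 : ∀ x : P, q3 * x ∈ Ideal.span {l₂} → x ∈ Ideal.span {l₂} :=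
  linear_nzd (k := (2 : Fin 9)) (p := l₃) (r := -(ff * l₁))
    (by simp only [Set.mem_singleton_iff, forall_eq]; exact freeX (by decide))
    (freeX (by decide)) ((freeX (by decide)).mul (freeX (by decide))).neg
    (by rw [q3]; ring) (nzd_X1 (by decide))

lemma l1_nzd_l2_q3 : ∀ x : P, l₁ * x ∈ Ideal.span {l₂, q3} → x ∈ Ideal.span {l₂, q3} := by
  simp only [Ideal.span_insert]
  refine nzd_swap (nzd_X1 (by decide)) fun x hx => ?_
  rw [← Ideal.span_insert] at hx ⊢
  refine nzd_X2 (j := 3) (by decide) (by decide) x (nzd_X2 (j := 2) (by decide) (by decide) _ ?_)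
  rw [show cc * (l₃ * x) = q3 * x + (ff * x) * l₁ by rw [q3]; ring]
  exact add_mem hx (Ideal.mul_mem_left _ _ (Ideal.subset_span (by simp)))

lemma q2_nzd_l2_q3 : ∀ x : P, q2 * x ∈ Ideal.span {l₂, q3} → x ∈ Ideal.span {l₂, q3} :=
  linear_nzd (k := (4 : Fin 9)) (p := -l₁) (r := -(ff * l₃))
    (by
      simp only [Set.mem_insert_iff, Set.mem_singleton_iff, forall_eq_or_imp, forall_eq, q3]
      exact ⟨freeX (by decide),
        ((freeX (by decide)).mul (freeX (by decide))).neg.add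
          ((freeX (by decide)).mul (freeX (by decide)))⟩)
    (freeX (by decide)).neg ((freeX (by decide)).mul (freeX (by decide))).neg
    (by rw [q2]; ring)
    (fun x hx => l1_nzd_l2_q3 x (by
      have := neg_mem hx
      rwa [neg_mul, neg_neg] at this))

lemma q3_nzd_l2_q2 : ∀ x : P, q3 * x ∈ Ideal.span {l₂, q2} → x ∈ Ideal.span {l₂, q2} := by
  have := q2_nzd_l2_q3 (A := A)
  simp only [Ideal.span_insert] at this ⊢
  exact nzd_swap q3_nzd_l2 this

lemma l1_nzd_l2 : ∀ x : P, l₁ * x ∈ Ideal.span {l₂} → x ∈ Ideal.span {l₂} := nzd_X1 (by decide)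

lemma q2_nzd_l2 : ∀ x : P, q2 * x ∈ Ideal.span {l₂} → x ∈ Ideal.span {l₂} :=
  linear_nzd (k := (4 : Fin 9)) (p := -l₁) (r := -(ff * l₃))
    (by simp only [Set.mem_singleton_iff, forall_eq]; exact freeX (by decide))
    (freeX (by decide)).neg ((freeX (by decide)).mul (freeX (by decide))).neg
    (by rw [q2]; ring)
    (fun x hx => l1_nzd_l2 x (by
      have := neg_mem hx
      rwa [neg_mul, neg_neg] at this))

lemma span_R2_sup : Ideal.span {R2} ⊔ Ideal.span {l₂} = Ideal.span {l₂, (q2 : P)} := by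
  rw [sup_comm, ← Ideal.span_insert]
  refine le_antisymm (Ideal.span_le.mpr ?_) (Ideal.span_le.mpr ?_) <;>
    simp only [Set.insert_subset_iff, Set.singleton_subset_iff, SetLike.mem_coe,
      Ideal.mem_span_pair]
  · exact ⟨⟨1, 0, by ring⟩, -hh + l₃, 1, by rw [R2, q2]; ring⟩
  · exact ⟨⟨1, 0, by ring⟩, hh - l₃, 1, by rw [R2, q2]; ring⟩

/-- The second linear form is regular modulo the last two quadrics. -/
lemma l2_nzd_R23 : ∀ x : P, l₂ * x ∈ Ideal.span {R2, R3} → x ∈ Ideal.span {R2, R3} := by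
  have h0 : ∀ x : P, l₂ * x ∈ Ideal.span {R2} → x ∈ Ideal.span {R2} := by
    have h : ∀ x : P, R2 * x ∈ ⊥ ⊔ Ideal.span {l₂} → x ∈ ⊥ ⊔ Ideal.span {l₂} := by
      intro x hx
      rw [bot_sup_eq] at hx ⊢
      refine q2_nzd_l2 x ?_
      rw [show q2 * x = R2 * x + ((hh - l₃) * x) * l₂ by rw [R2, q2]; ring]
      exact add_mem hx span_singleton_mem
    simpa using nzd_swap (nzd_X 1) h
  rw [show Ideal.span {R2, (R3 : P)} = Ideal.span {R2} ⊔ Ideal.span {R3} from Ideal.span_insert _ _]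
  refine nzd_swap h0 fun x hx => ?_
  rw [span_R2_sup] at hx ⊢
  refine q3_nzd_l2_q2 x ?_
  rw [show q3 * x = R3 * x + (ii * x) * l₂ by rw [R3, q3]; ring]
  exact add_mem hx (Ideal.mul_mem_left _ _ (Ideal.subset_span (by simp)))

lemma mem_span_triple {R : Type*} [CommRing R] {a b c z : R} :
    z ∈ Ideal.span {a, b, c} ↔ ∃ u v w, u * a + v * b + w * c = z := by
  rw [Ideal.mem_span_insert]
  constructor
  · rintro ⟨u, y, hy, rfl⟩
    obtain ⟨v, w, rfl⟩ := Ideal.mem_span_pair.mp hy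
    exact ⟨u, v, w, by ring⟩
  · rintro ⟨u, v, w, rfl⟩
    exact ⟨u, v * b + w * c, Ideal.mem_span_pair.mpr ⟨v, w, rfl⟩, by ring⟩

lemma mem_span_quad {R : Type*} [CommRing R] {a b c d z : R} :
    z ∈ Ideal.span {a, b, c, d} ↔ ∃ u v w s, u * a + v * b + w * c + s * d = z := by
  rw [Ideal.mem_span_insert]
  constructor
  · rintro ⟨u, y, hy, rfl⟩
    obtain ⟨v, w, s, rfl⟩ := mem_span_triple.mp hy
    exact ⟨u, v, w, s, by ring⟩
  · rintro ⟨u, v, w, s, rfl⟩
    exact ⟨u, v * b + w * c + s * d, mem_span_triple.mpr ⟨v, w, s, rfl⟩, by ring⟩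

/-- The annihilator of the first linear form modulo the last two quadrics. -/
lemma ann_l1 : ∀ x : P, l₁ * x ∈ Ideal.span {l₂, q2, q3} → x ∈ Ideal.span {l₂, q2, q3, dlt} := by
  intro x hx
  obtain ⟨a, b, w, e⟩ := mem_span_triple.mp hx
  have h1 : l₃ * (-(ff * b) + cc * w) ∈ Ideal.span {l₁, l₂} := Ideal.mem_span_pair.mpr
    ⟨x + ee * b + ff * w, -a, by rw [q2, q3] at e; linear_combination -e⟩
  obtain ⟨s, t, e1⟩ := Ideal.mem_span_pair.mp (nzd_X2 (by decide) (by decide) _ h1)
  have h2 : cc * w ∈ Ideal.span (X '' ({5, 0, 1} : Set (Fin 9))) := by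
    simp only [Set.image_insert_eq, Set.image_singleton]
    exact mem_span_triple.mpr ⟨b, s, t, by linear_combination e1⟩
  have h3 := X_nzd (by decide) w h2
  simp only [Set.image_insert_eq, Set.image_singleton] at h3
  obtain ⟨w₁, w₂, w₃, rfl⟩ := mem_span_triple.mp h3
  have h4 : ff * (-b + cc * w₁) ∈ Ideal.span {l₁, l₂} := Ideal.mem_span_pair.mpr
    ⟨s - cc * w₂, t - cc * w₃, by linear_combination e1⟩
  obtain ⟨b₂, b₃, e2⟩ := Ideal.mem_span_pair.mp (nzd_X2 (by decide) (by decide) _ h4)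
  have hb : b = cc * w₁ - b₂ * l₁ - b₃ * l₂ := by linear_combination e2
  subst hb
  have h5 : l₁ * (x - (w₁ * dlt - b₂ * q2 + w₂ * q3)) ∈ Ideal.span {l₂} :=
    Ideal.mem_span_singleton'.mpr ⟨a - b₃ * q2 + w₃ * q3, by
      rw [q2, q3] at e ⊢; rw [dlt]; linear_combination e⟩
  obtain ⟨u, hu⟩ := Ideal.mem_span_singleton'.mp (l1_nzd_l2 _ h5)
  exact mem_span_quad.mpr ⟨u, -b₂, w₂, w₁, by linear_combination hu⟩

lemma free_gens {k : Fin 9} (h0 : (0 : Fin 9) ≠ k) (h1 : (1 : Fin 9) ≠ k) (h2 : (2 : Fin 9) ≠ k)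
    (h3 : (3 : Fin 9) ≠ k) (h4 : (4 : Fin 9) ≠ k) (h5 : (5 : Fin 9) ≠ k) :
    ∀ s ∈ ({l₂, q2, q3, dlt} : Set P), Free k s := by
  simp only [Set.mem_insert_iff, Set.mem_singleton_iff, forall_eq_or_imp, forall_eq, q2, q3, dlt]
  exact ⟨freeX h1, ((freeX h4).mul (freeX h0)).neg.sub ((freeX h5).mul (freeX h3)),
    ((freeX h5).mul (freeX h0)).neg.add ((freeX h2).mul (freeX h3)),
    ((freeX h4).mul (freeX h2)).neg.sub ((freeX h5).mul (freeX h5))⟩

/-- The annihilator of `h l₁ + i l₃` modulo the last two quadrics and the second linear form. -/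
lemma ann_r : ∀ x : P, (hh * l₁ + ii * l₃) * x ∈ Ideal.span {l₂, q2, q3} →
    x ∈ Ideal.span {l₂, q2, q3, dlt} := by
  have hfree := free_gens (A := A) (k := (7 : Fin 9)) (by decide) (by decide) (by decide)
    (by decide) (by decide) (by decide)
  refine linear_ann (k := (7 : Fin 9)) (p := l₁) (r := ii * l₃) (fun s hs => hfree s ?_) hfree
    (freeX (by decide)) ((freeX (by decide)).mul (freeX (by decide))) (by ring) ann_l1
    fun x hx => ?_
  · simp only [Set.mem_insert_iff, Set.mem_singleton_iff] at hs ⊢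
    tauto
  · obtain ⟨u, v, w, s, rfl⟩ := mem_span_quad.mp hx
    exact mem_span_triple.mpr ⟨ii * l₃ * u, ii * (l₃ * v + ff * s), ii * (l₃ * w - ee * s),
      by rw [q2, q3, dlt]; ring⟩

/-- The colon ideal of the Jacobi ideal by the second linear form. -/
lemma colon_l2 {x : P} (hx : l₂ * x ∈ I3 A) : x ∈ J3 A := by
  obtain ⟨u, v, w, e⟩ := mem_span_triple.mp hx
  have h1 : (hh * l₁ + ii * l₃) * u ∈ Ideal.span {l₂, q2, q3} :=
    mem_span_triple.mpr ⟨x + u * gg + v * (hh - l₃) + w * ii, -v, -w, by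
      simp only [R1, R2, R3] at e
      rw [q2, q3]; linear_combination -e⟩
  obtain ⟨α, β, γ, s, rfl⟩ := mem_span_quad.mp (ann_r u h1)
  have key : l₂ * (x - (α * R1 - s * Det - s * ff * R1 + β * (hh - l₃) * R1 + γ * ii * R1)) ∈
      Ideal.span {R2, R3} := Ideal.mem_span_pair.mpr
    ⟨β * R1 + v + s * (cc * hh + ii * ff), γ * R1 + w + s * (-(ii * ee) - (l₂ - ff) * hh), by
      simp only [R1, R2, R3, q2, q3, dlt, Det] at e ⊢; linear_combination e⟩
  obtain ⟨m, m', e'⟩ := Ideal.mem_span_pair.mp (l2_nzd_R23 _ key)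
  exact mem_span_quad.mpr ⟨α - s * ff + β * (hh - l₃) + γ * ii, m, m', -s, by linear_combination e'⟩

end Groth.Agent.Lie3
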