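import Groth.Agent.Lie3.Linkage
import Groth.Prelude.Def_W4c1bouilletffgsL3
import Mathlib.RingTheory.Localization.FractionRing
import Mathlib.Algebra.MvPolynomial.Rename
import Mathlib.RingTheory.Ideal.Colon
import Mathlib.RingTheory.Ideal.Maps
import Mathlib.Tactic.FieldSimp

/-!
The components of the scheme of based three-dimensional Lie algebras.
-/

set_option autoImplicit false

namespace Groth.Agent.Lie3

open MvPolynomial

variable {A : Type*} [CommRing A]

local notation "P" => MvPolynomial (Fin 9) A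
local notation "l₁" => (X 0 : P)
local notation "l₂" => (X 1 : P)
local notation "cc" => (X 2 : P)
local notation "l₃" => (X 3 : P)
local notation "ee" => (X 4 : P)
local notation "ff" => (X 5 : P)
local notation "gg" => (X 6 : P)
local notation "hh" => (X 7 : P)
local notation "ii" => (X 8 : P)

lemma det_l1 : Det * l₁ ∈ I3 A := mem_span_triple.mpr
  ⟨-(cc * hh) + (l₂ - ff) * ii, gg * cc - ii * ii, -(gg * (l₂ - ff)) + ii * hh, by
    simp only [R1, R2, R3, Det]; ring⟩

lemma det_l2 : Det * l₂ ∈ I3 A := mem_span_triple.mpr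
  ⟨cc * ee - (l₂ - ff) * ff, cc * hh + ii * ff, -(ii * ee) - (l₂ - ff) * hh, by
    simp only [R1, R2, R3, Det]; ring⟩

lemma det_l3 : Det * l₃ ∈ I3 A := mem_span_triple.mpr
  ⟨ii * ee - hh * ff, hh * ii + gg * ff, -(hh * hh) - gg * ee, by
    simp only [R1, R2, R3, Det]; ring⟩

lemma det_L {z : P} (hz : z ∈ L3' A) : Det * z ∈ I3 A := by
  obtain ⟨u, v, w, rfl⟩ := mem_span_triple.mp hz
  rw [show Det * (u * l₁ + v * l₂ + w * l₃) = u * (Det * l₁) + v * (Det * l₂) + w * (Det * l₃) by
    ring]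
  exact add_mem (add_mem (Ideal.mul_mem_left _ _ det_l1) (Ideal.mul_mem_left _ _ det_l2))
    (Ideal.mul_mem_left _ _ det_l3)

lemma I3_le_L3 : I3 A ≤ L3' A := by
  refine Ideal.span_le.mpr ?_
  simp only [Set.insert_subset_iff, Set.singleton_subset_iff, SetLike.mem_coe]
  refine ⟨mem_span_triple.mpr ⟨hh, -gg, ii, by rw [R1]; ring⟩,
    mem_span_triple.mpr ⟨-ee, -hh, l₂ - ff, by rw [R2]; ring⟩,
    mem_span_triple.mpr ⟨-ff, -ii, cc, by rw [R3]; ring⟩⟩

lemma I3_le_J3 : I3 A ≤ J3 A := Ideal.span_mono (by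
  simp only [Set.insert_subset_iff, Set.singleton_subset_iff, Set.mem_insert_iff,
    Set.mem_singleton_iff, true_or, or_true, and_self])

/-- The determinant is regular modulo the linear forms. -/
lemma det_nzd_L : ∀ x : P, Det * x ∈ L3' A → x ∈ L3' A := by
  have hfree : ∀ {k : Fin 9}, (0 : Fin 9) ≠ k → (1 : Fin 9) ≠ k → (3 : Fin 9) ≠ k →
      ∀ s ∈ ({l₁, l₂, l₃} : Set P), Free k s := by
    intro k h0 h1 h3
    simp only [Set.mem_insert_iff, Set.mem_singleton_iff, forall_eq_or_imp, forall_eq]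
    exact ⟨freeX h0, freeX h1, freeX h3⟩
  have hz : ∀ x : P, ee * x ∈ L3' A → x ∈ L3' A := by
    simpa [L3', Set.image_insert_eq] using
      X_nzd (A := A) (j := (4 : Fin 9)) (s := {0, 1, 3}) (by decide)
  have hc : ∀ x : P, (-(hh * hh) - gg * ee) * x ∈ L3' A → x ∈ L3' A :=
    linear_nzd (k := (6 : Fin 9)) (p := -ee) (r := -(hh * hh))
      (hfree (by decide) (by decide) (by decide)) (freeX (by decide)).neg
      ((freeX (by decide)).mul (freeX (by decide))).neg (by ring)
      fun x hx => hz x (by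
        have := neg_mem hx
        rwa [neg_mul, neg_neg] at this)
  have f : ∀ {j : Fin 9}, j ≠ 2 → Free (2 : Fin 9) (X j : P) := fun h => freeX h
  refine linear_nzd (k := (2 : Fin 9)) (p := -(hh * hh) - gg * ee)
    (r := gg * (l₂ - ff) * ff + ee * (ii * ii) + hh * (l₂ - ff) * ii - ii * hh * ff)
    (hfree (by decide) (by decide) (by decide))
    (((f (by decide)).mul (f (by decide))).neg.sub ((f (by decide)).mul (f (by decide))))
    ((((((f (by decide)).mul ((f (by decide)).sub (f (by decide)))).mul (f (by decide))).add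
      ((f (by decide)).mul ((f (by decide)).mul (f (by decide))))).add
      (((f (by decide)).mul ((f (by decide)).sub (f (by decide)))).mul (f (by decide)))).sub
      (((f (by decide)).mul (f (by decide))).mul (f (by decide))))
    (by rw [Det]; ring) hc

lemma l2_mem_L3 : l₂ ∈ L3' A := Ideal.subset_span (by simp)

/-- The second linear form is regular on the component. -/
lemma l2_nzd_J {x : P} (hx : l₂ * x ∈ J3 A) : x ∈ J3 A := by
  obtain ⟨u, v, w, s, e⟩ := mem_span_quad.mp hx
  refine colon_l2 ?_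
  have hI : u * R1 + v * R2 + w * R3 ∈ I3 A := mem_span_triple.mpr ⟨u, v, w, rfl⟩
  have hs : s ∈ L3' A := by
    refine det_nzd_L s ?_
    rw [show Det * s = l₂ * x - (u * R1 + v * R2 + w * R3) by linear_combination e]
    exact sub_mem (Ideal.mul_mem_right _ _ l2_mem_L3) (I3_le_L3 hI)
  rw [← e, mul_comm s Det]
  exact add_mem hI (det_L hs)

lemma I3_eq_inf : I3 A = J3 A ⊓ L3' A := by
  refine le_antisymm (le_inf I3_le_J3 I3_le_L3) fun x ⟨hJ, hL⟩ => ?_
  obtain ⟨u, v, w, s, rfl⟩ := mem_span_quad.mp hJ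
  have hI : u * R1 + v * R2 + w * R3 ∈ I3 A := mem_span_triple.mpr ⟨u, v, w, rfl⟩
  have hs : s ∈ L3' A := det_nzd_L s (by
    have := sub_mem hL (I3_le_L3 hI)
    rwa [add_sub_cancel_left, mul_comm] at this)
  rw [mul_comm s Det]
  exact add_mem hI (det_L hs)

section Domain

variable (A)

/-- The six free coordinates. -/
noncomputable def incl : MvPolynomial (Fin 6) A →ₐ[A] P :=
  rename (Fin.castLE (by decide))

/-- A polynomial becomes, after multiplying by a power of `l₂`, a polynomial in the free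
coordinates modulo the Jacobi ideal. -/
lemma exists_reduce (x : P) : ∃ (m : ℕ) (s : MvPolynomial (Fin 6) A),
    l₂ ^ m * x - incl A s ∈ I3 A := by
  have hX : ∀ j : Fin 9, ∃ (m : ℕ) (s : MvPolynomial (Fin 6) A),
      l₂ ^ m * X j - incl A s ∈ I3 A := by
    intro j
    fin_cases j
    · exact ⟨0, X 0, by simp [incl]⟩
    · exact ⟨0, X 1, by simp [incl]⟩
    · exact ⟨0, X 2, by simp [incl]⟩
    · exact ⟨0, X 3, by simp [incl]⟩
    · exact ⟨0, X 4, by simp [incl]⟩
    · exact ⟨0, X 5, by simp [incl]⟩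
    · refine ⟨2, X 0 * (-(X 4 * X 0) + (X 1 - X 5) * X 3) + X 3 * (-(X 5 * X 0) + X 2 * X 3),
        mem_span_triple.mpr ⟨-l₂, -l₁, -l₃, ?_⟩⟩
      simp only [incl, map_add, map_sub, map_mul, map_neg, rename_X, R1, R2, R3]
      simp only [show Fin.castLE (by decide : 6 ≤ 9) (0 : Fin 6) = 0 from rfl,
        show Fin.castLE (by decide : 6 ≤ 9) (1 : Fin 6) = 1 from rfl,
        show Fin.castLE (by decide : 6 ≤ 9) (2 : Fin 6) = 2 from rfl,
        show Fin.castLE (by decide : 6 ≤ 9) (3 : Fin 6) = 3 from rfl,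
        show Fin.castLE (by decide : 6 ≤ 9) (4 : Fin 6) = 4 from rfl,
        show Fin.castLE (by decide : 6 ≤ 9) (5 : Fin 6) = 5 from rfl]
      show _ = l₂ ^ 2 * gg - _
      ring
    · refine ⟨1, -(X 4 * X 0) + (X 1 - X 5) * X 3, mem_span_triple.mpr ⟨0, -1, 0, ?_⟩⟩
      simp only [incl, map_add, map_sub, map_mul, map_neg, rename_X, R1, R2, R3]
      show _ = l₂ ^ 1 * hh - (-(ee * l₁) + (l₂ - ff) * l₃)
      ring
    · refine ⟨1, -(X 5 * X 0) + X 2 * X 3, mem_span_triple.mpr ⟨0, 0, -1, ?_⟩⟩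
      simp only [incl, map_add, map_sub, map_mul, map_neg, rename_X, R1, R2, R3]
      show _ = l₂ ^ 1 * ii - (-(ff * l₁) + cc * l₃)
      ring
  have hincl : incl A (X 1) = l₂ := by simp [incl]
  induction x using MvPolynomial.induction_on with
  | C a => exact ⟨0, C a, by simp [incl]⟩
  | add p q hp hq =>
    obtain ⟨m, s, hs⟩ := hp
    obtain ⟨m', s', hs'⟩ := hq
    refine ⟨m + m', X 1 ^ m' * s + X 1 ^ m * s', ?_⟩
    rw [map_add, map_mul, map_mul, map_pow, map_pow, hincl,
      show l₂ ^ (m + m') * (p + q) - (l₂ ^ m' * incl A s + l₂ ^ m * incl A s') =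
        l₂ ^ m' * (l₂ ^ m * p - incl A s) + l₂ ^ m * (l₂ ^ m' * q - incl A s') by
          rw [pow_add]; ring]
    exact add_mem (Ideal.mul_mem_left _ _ hs) (Ideal.mul_mem_left _ _ hs')
  | mul_X p j hp =>
    obtain ⟨m, s, hs⟩ := hp
    obtain ⟨m', s', hs'⟩ := hX j
    refine ⟨m + m', s * s', ?_⟩
    rw [map_mul, show l₂ ^ (m + m') * (p * X j) - incl A s * incl A s' =
      (l₂ ^ m * p - incl A s) * (l₂ ^ m' * X j) + incl A s * (l₂ ^ m' * X j - incl A s') by
        rw [pow_add]; ring]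
    exact add_mem (Ideal.mul_mem_right _ _ hs) (Ideal.mul_mem_left _ _ hs')

variable [IsDomain A]

/-- The component outside the linear forms is integral. -/
lemma J3_isPrime : (J3 A).IsPrime := by
  let S0 := MvPolynomial (Fin 6) A
  let F := FractionRing S0
  let v : Fin 6 → F := fun t => algebraMap S0 F (X t)
  let vi : F := (v 2 * v 3 - v 5 * v 0) / v 1
  let vh : F := (-(v 4 * v 0) + (v 1 - v 5) * v 3) / v 1
  let vg : F := (vh * v 0 + vi * v 3) / v 1
  let φ : P →ₐ[A] F := aeval ![v 0, v 1, v 2, v 3, v 4, v 5, vg, vh, vi]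
  have h1 : v 1 ≠ 0 := by
    simp only [v, ne_eq, map_eq_zero_iff _ (IsFractionRing.injective S0 F)]
    exact X_ne_zero 1
  have hX : ∀ j, φ (X j) = ![v 0, v 1, v 2, v 3, v 4, v 5, vg, vh, vi] j := fun j => aeval_X _ j
  have hR1 : φ R1 = 0 := by
    simp [R1, hX, vg]
    rw [mul_div_cancel₀ _ h1]
    ring
  have hR2 : φ R2 = 0 := by
    simp [R2, hX, vh]
    rw [div_mul_cancel₀ _ h1]
    ring
  have hR3 : φ R3 = 0 := by
    simp [R3, hX, vi]
    rw [div_mul_cancel₀ _ h1]
    ring
  have hI : ∀ y ∈ I3 A, φ y = 0 := by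
    intro y hy
    obtain ⟨a, b, c, rfl⟩ := mem_span_triple.mp hy
    simp [hR1, hR2, hR3]
  have hdet : φ Det = 0 := by
    have := hI _ det_l2
    rw [map_mul, hX] at this
    exact (mul_eq_zero.mp this).resolve_right h1
  have hinc : ∀ s, φ (incl A s) = algebraMap S0 F s := by
    have : φ.comp (incl A) = IsScalarTower.toAlgHom A S0 F := by
      ext t
      fin_cases t <;> simp [incl, hX, v] <;> rfl
    exact fun s => AlgHom.congr_fun this s
  have hker : RingHom.ker φ.toRingHom = J3 A := by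
    refine le_antisymm (fun x hx => ?_) ?_
    · obtain ⟨m, s, hs⟩ := exists_reduce A x
      have hs0 : s = 0 := by
        have := hI _ hs
        rw [map_sub, map_mul, show φ x = 0 from hx, mul_zero, zero_sub, neg_eq_zero, hinc,
          map_eq_zero_iff _ (IsFractionRing.injective S0 F)] at this
        exact this
      rw [hs0, map_zero, sub_zero] at hs
      have hJ := I3_le_J3 hs
      clear hs hs0
      induction m with
      | zero => simpa using hJ
      | succ m ih => exact ih (l2_nzd_J (by rwa [pow_succ', mul_assoc] at hJ))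
    · refine Ideal.span_le.mpr ?_
      simp only [Set.insert_subset_iff, Set.singleton_subset_iff, SetLike.mem_coe]
      exact ⟨hR1, hR2, hR3, hdet⟩
  rw [← hker]
  exact RingHom.ker_isPrime _

lemma l2_notMem_J3 : l₂ ∉ J3 A := fun h => by
  have h1 : (1 : P) ∈ J3 A := l2_nzd_J (by rwa [mul_one])
  exact (J3_isPrime A).ne_top ((Ideal.eq_top_iff_one _).mpr h1)

lemma L3_isPrime : (L3' A).IsPrime := by
  let φ : P →ₐ[A] MvPolynomial (Fin 9) A :=
    aeval fun j => if j = 0 ∨ j = 1 ∨ j = 3 then 0 else X j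
  have hker : RingHom.ker φ.toRingHom = L3' A := by
    refine le_antisymm (fun x hx => ?_) ?_
    · have : x - φ x ∈ L3' A := by
        clear hx
        induction x using MvPolynomial.induction_on with
        | C a => simp [φ]
        | add p q hp hq =>
          rw [map_add, add_sub_add_comm]; exact add_mem hp hq
        | mul_X p j hp =>
          rw [map_mul, show p * X j - φ p * φ (X j) = (p - φ p) * X j + φ p * (X j - φ (X j)) by ring]
          refine add_mem (Ideal.mul_mem_right _ _ hp) (Ideal.mul_mem_left _ _ ?_)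
          simp only [φ, aeval_X]
          split
          · rename_i h
            rw [sub_zero]
            rcases h with rfl | rfl | rfl <;> exact Ideal.subset_span (by simp)
          · simp
      rwa [show φ x = 0 from hx, sub_zero] at this
    · refine Ideal.span_le.mpr ?_
      simp only [Set.insert_subset_iff, Set.singleton_subset_iff, SetLike.mem_coe]
      exact ⟨by simp [φ], by simp [φ], by simp [φ]⟩
  rw [← hker]
  exact RingHom.ker_isPrime _

end Domain

/-! Back to the structure constants. -/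

variable (A)

/-- Change of coordinates. -/
noncomputable def coord : Lie3Mod.D A ≃ₐ[A] P :=
  AlgEquiv.ofAlgHom
    (aeval ![l₁ + ii, l₂ - ff, cc, l₃ - hh, ee, ff, gg, hh, ii])
    (aeval ![l₁ - ii, l₂ + ff, cc, l₃ + hh, ee, ff, gg, hh, ii])
    (by ext j; fin_cases j <;> simp)
    (by ext j; fin_cases j <;> simp)

lemma coord_Q1 : coord A (Lie3Mod.Q1 A) = R1 := by
  simp [coord, Lie3Mod.Q1, R1]; ring

lemma coord_Q2 : coord A (Lie3Mod.Q2 A) = R2 := by
  simp [coord, Lie3Mod.Q2, R2]; ring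

lemma coord_Q3 : coord A (Lie3Mod.Q3 A) = R3 := by
  simp [coord, Lie3Mod.Q3, R3]; ring

lemma coord_det : coord A (Lie3Mod.detM A) = Det := by
  simp [coord, Lie3Mod.detM, Det]

lemma coord_L : coord A (Lie3Mod.L1 A) = l₁ ∧ coord A (Lie3Mod.L2 A) = l₂ ∧
    coord A (Lie3Mod.L3 A) = l₃ := by
  simp [coord, Lie3Mod.L1, Lie3Mod.L2, Lie3Mod.L3]

lemma mem_span_coord (S : Set (Lie3Mod.D A)) (x : Lie3Mod.D A) :
    x ∈ Ideal.span S ↔ coord A x ∈ Ideal.span (coord A '' S) := by
  have h : (Ideal.span S).map (coord A).toRingEquiv = Ideal.span (coord A '' S) :=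
    Ideal.map_span _ _
  rw [← h]
  exact (Ideal.apply_mem_of_equiv_iff (f := (coord A).toRingEquiv)).symm

lemma mem_idI {x : Lie3Mod.D A} : x ∈ Lie3Mod.idI A ↔ coord A x ∈ I3 A := by
  rw [Lie3Mod.idI, mem_span_coord, I3]
  simp [Set.image_insert_eq, coord_Q1, coord_Q2, coord_Q3]

lemma mem_idJ {x : Lie3Mod.D A} : x ∈ Lie3Mod.idJ A ↔ coord A x ∈ J3 A := by
  rw [Lie3Mod.idJ, mem_span_coord, J3]
  simp [Set.image_insert_eq, coord_Q1, coord_Q2, coord_Q3, coord_det]

lemma mem_idL {x : Lie3Mod.D A} : x ∈ Lie3Mod.idL A ↔ coord A x ∈ L3' A := by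
  rw [Lie3Mod.idL, mem_span_coord, L3']
  simp [Set.image_insert_eq, (coord_L A).1, (coord_L A).2.1, (coord_L A).2.2]

lemma idI_eq_inf : Lie3Mod.idI A = Lie3Mod.idJ A ⊓ Lie3Mod.idL A := by
  ext x
  rw [Ideal.mem_inf, mem_idI, mem_idJ, mem_idL, I3_eq_inf]
  rfl

lemma idI_colon_idL :
    (Lie3Mod.idI A).colon (Lie3Mod.idL A : Set (Lie3Mod.D A)) = Lie3Mod.idJ A := by
  ext x
  simp only [Submodule.mem_colon, SetLike.mem_coe, smul_eq_mul]
  constructor
  · intro h
    rw [mem_idJ]
    refine colon_l2 ?_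
    have := h (Lie3Mod.L2 A) (Ideal.subset_span (by simp))
    rwa [mem_idI, map_mul, (coord_L A).2.1, mul_comm] at this
  · intro hx z hz
    rw [mem_idJ] at hx
    rw [mem_idL] at hz
    rw [mem_idI, map_mul, I3_eq_inf]
    exact ⟨Ideal.mul_mem_right _ _ hx, Ideal.mul_mem_left _ _ hz⟩

lemma idI_colon_idJ :
    (Lie3Mod.idI A).colon (Lie3Mod.idJ A : Set (Lie3Mod.D A)) = Lie3Mod.idL A := by
  ext x
  simp only [Submodule.mem_colon, SetLike.mem_coe, smul_eq_mul]
  constructor
  · intro h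
    have := h (Lie3Mod.detM A) (Ideal.subset_span (by simp))
    rw [mem_idI, map_mul, coord_det, mul_comm] at this
    exact (mem_idL A).mpr (det_nzd_L _ (I3_le_L3 this))
  · intro hx z hz
    rw [mem_idJ] at hz
    rw [mem_idL] at hx
    rw [mem_idI, map_mul, I3_eq_inf]
    exact ⟨Ideal.mul_mem_left _ _ hz, Ideal.mul_mem_right _ _ hx⟩

section Domain

variable [IsDomain A]

lemma idJ_isPrime : (Lie3Mod.idJ A).IsPrime := by
  have := J3_isPrime A
  have h : Lie3Mod.idJ A = (J3 A).comap (coord A).toRingEquiv.toRingHom :=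
    Ideal.ext fun x => mem_idJ A
  rw [h]
  exact Ideal.comap_isPrime _ _

lemma idL_isPrime : (Lie3Mod.idL A).IsPrime := by
  have := L3_isPrime A
  have h : Lie3Mod.idL A = (L3' A).comap (coord A).toRingEquiv.toRingHom :=
    Ideal.ext fun x => mem_idL A
  rw [h]
  exact Ideal.comap_isPrime _ _

lemma L2_notMem_idJ : Lie3Mod.L2 A ∉ Lie3Mod.idJ A := by
  rw [mem_idJ, (coord_L A).2.1]
  exact l2_notMem_J3 A

end Domain

end Groth.Agent.Lie3
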