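import Groth.Agent.Lie3.Prime
import Mathlib.RingTheory.Regular.RegularSequence

/-!
The Jacobi quadrics and the three linear forms are regular sequences.
-/

set_option autoImplicit false

namespace Groth.Agent.Lie3

open MvPolynomial

variable {A : Type*} [CommRing A]

local notation "P" => MvPolynomial (Fin 9) A
local notation "l₁" => (X 0 : P)
local notation "l₂" => (X 1 : P)
local notation "cc" => (X 2 : P)
local notation "l₃" => (X 3 : P)
local notation "ee" => (X 4 : P)
local notation "ff" => (X 5 : P)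
local notation "gg" => (X 6 : P)
local notation "hh" => (X 7 : P)
local notation "ii" => (X 8 : P)

lemma neg_nzd {R : Type*} [CommRing R] {I : Ideal R} {p : R} (h : ∀ x, p * x ∈ I → x ∈ I) :
    ∀ x, -p * x ∈ I → x ∈ I := fun x hx => h x (by
  have := neg_mem hx
  rwa [neg_mul, neg_neg] at this)

lemma free_R2 (k : Fin 9) (h0 : (0 : Fin 9) ≠ k) (h1 : (1 : Fin 9) ≠ k) (h3 : (3 : Fin 9) ≠ k)
    (h4 : (4 : Fin 9) ≠ k) (h5 : (5 : Fin 9) ≠ k) (h7 : (7 : Fin 9) ≠ k) : Free k (R2 : P) :=
  (((freeX h4).mul (freeX h0)).neg.sub ((freeX h7).mul (freeX h1))).add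
    (((freeX h1).sub (freeX h5)).mul (freeX h3))

lemma free_R3 (k : Fin 9) (h0 : (0 : Fin 9) ≠ k) (h1 : (1 : Fin 9) ≠ k) (h3 : (3 : Fin 9) ≠ k)
    (h2 : (2 : Fin 9) ≠ k) (h5 : (5 : Fin 9) ≠ k) (h8 : (8 : Fin 9) ≠ k) : Free k (R3 : P) :=
  (((freeX h5).mul (freeX h0)).neg.sub ((freeX h8).mul (freeX h1))).add
    ((freeX h2).mul (freeX h3))

lemma bot_iff {x : P} : x ∈ (⊥ : Ideal P) ↔ x ∈ Ideal.span (∅ : Set P) := by simp

lemma R1_nzd : ∀ x : P, R1 * x ∈ (⊥ : Ideal P) → x ∈ (⊥ : Ideal P) := by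
  simp only [bot_iff]
  exact linear_nzd (k := (6 : Fin 9)) (p := -l₂) (r := hh * l₁ + ii * l₃) (by simp)
    (freeX (by decide)).neg
    (((freeX (by decide)).mul (freeX (by decide))).add ((freeX (by decide)).mul (freeX (by decide))))
    (by rw [R1]; ring) (neg_nzd fun x => by simpa using nzd_X (A := A) 1 x)

lemma R2_nzd : ∀ x : P, R2 * x ∈ (⊥ : Ideal P) → x ∈ (⊥ : Ideal P) := by
  simp only [bot_iff]
  exact linear_nzd (k := (4 : Fin 9)) (p := -l₁) (r := -(hh * l₂) + (l₂ - ff) * l₃) (by simp)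
    (freeX (by decide)).neg
    (((freeX (by decide)).mul (freeX (by decide))).neg.add
      (((freeX (by decide)).sub (freeX (by decide))).mul (freeX (by decide))))
    (by rw [R2]; ring) (neg_nzd fun x => by simpa using nzd_X (A := A) 0 x)

lemma R3_nzd : ∀ x : P, R3 * x ∈ (⊥ : Ideal P) → x ∈ (⊥ : Ideal P) := by
  simp only [bot_iff]
  exact linear_nzd (k := (2 : Fin 9)) (p := l₃) (r := -(ff * l₁) - ii * l₂) (by simp)
    (freeX (by decide))
    (((freeX (by decide)).mul (freeX (by decide))).neg.sub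
      ((freeX (by decide)).mul (freeX (by decide))))
    (by rw [R3]; ring) (fun x => by simpa using nzd_X (A := A) 3 x)

lemma R2_nzd_R1 : ∀ x : P, R2 * x ∈ Ideal.span {R1} → x ∈ Ideal.span {R1} := by
  have h : ∀ x : P, R1 * x ∈ ⊥ ⊔ Ideal.span {R2} → x ∈ ⊥ ⊔ Ideal.span {R2} := by
    simp only [bot_sup_eq]
    refine linear_nzd (k := (6 : Fin 9)) (p := -l₂) (r := hh * l₁ + ii * l₃) ?_
      (freeX (by decide)).neg
      (((freeX (by decide)).mul (freeX (by decide))).add
        ((freeX (by decide)).mul (freeX (by decide))))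
      (by rw [R1]; ring) (neg_nzd ?_)
    · simp only [Set.mem_singleton_iff, forall_eq]
      exact free_R2 6 (by decide) (by decide) (by decide) (by decide) (by decide) (by decide)
    · have h' : ∀ x : P, R2 * x ∈ ⊥ ⊔ Ideal.span {l₂} → x ∈ ⊥ ⊔ Ideal.span {l₂} := by
        intro x hx
        rw [bot_sup_eq] at hx ⊢
        refine q2_nzd_l2 x ?_
        rw [show q2 * x = R2 * x + ((hh - l₃) * x) * l₂ by rw [R2, q2]; ring]
        exact add_mem hx span_singleton_mem
      simpa using nzd_swap (nzd_X 1) h'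
  simpa using nzd_swap R2_nzd h

lemma R2_nzd_R3 : ∀ x : P, R2 * x ∈ Ideal.span {R3} → x ∈ Ideal.span {R3} := by
  have h : ∀ x : P, R3 * x ∈ ⊥ ⊔ Ideal.span {l₁} → x ∈ ⊥ ⊔ Ideal.span {l₁} := by
    simp only [bot_sup_eq]
    refine linear_nzd (k := (2 : Fin 9)) (p := l₃) (r := -(ff * l₁) - ii * l₂) ?_
      (freeX (by decide))
      (((freeX (by decide)).mul (freeX (by decide))).neg.sub
        ((freeX (by decide)).mul (freeX (by decide))))
      (by rw [R3]; ring) (nzd_X1 (by decide))
    simp only [Set.mem_singleton_iff, forall_eq]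
    exact freeX (by decide)
  have h1 : ∀ x : P, l₁ * x ∈ Ideal.span {R3} → x ∈ Ideal.span {R3} := by
    simpa using nzd_swap (nzd_X 0) h
  refine linear_nzd (k := (4 : Fin 9)) (p := -l₁) (r := -(hh * l₂) + (l₂ - ff) * l₃) ?_
    (freeX (by decide)).neg
    (((freeX (by decide)).mul (freeX (by decide))).neg.add
      (((freeX (by decide)).sub (freeX (by decide))).mul (freeX (by decide))))
    (by rw [R2]; ring) (neg_nzd h1)
  simp only [Set.mem_singleton_iff, forall_eq]
  exact free_R3 4 (by decide) (by decide) (by decide) (by decide) (by decide) (by decide)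

lemma R3_nzd_R2 : ∀ x : P, R3 * x ∈ Ideal.span {R2} → x ∈ Ideal.span {R2} := by
  simpa using nzd_swap (I := ⊥) R3_nzd (by simpa using R2_nzd_R3 (A := A))

lemma R3_nzd_R12 : ∀ x : P, R3 * x ∈ Ideal.span {R1, R2} → x ∈ Ideal.span {R1, R2} := by
  have h : ∀ x : P, R1 * x ∈ Ideal.span {R2} ⊔ Ideal.span {R3} →
      x ∈ Ideal.span {R2} ⊔ Ideal.span {R3} := by
    simp only [← Ideal.span_insert]
    refine linear_nzd (k := (6 : Fin 9)) (p := -l₂) (r := hh * l₁ + ii * l₃) ?_
      (freeX (by decide)).neg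
      (((freeX (by decide)).mul (freeX (by decide))).add
        ((freeX (by decide)).mul (freeX (by decide))))
      (by rw [R1]; ring) (neg_nzd l2_nzd_R23)
    simp only [Set.mem_insert_iff, Set.mem_singleton_iff, forall_eq_or_imp, forall_eq]
    exact ⟨free_R2 6 (by decide) (by decide) (by decide) (by decide) (by decide) (by decide),
      free_R3 6 (by decide) (by decide) (by decide) (by decide) (by decide) (by decide)⟩
  rw [Set.pair_comm, Ideal.span_insert]
  exact nzd_swap R3_nzd_R2 h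

open RingTheory.Sequence in
lemma isWeaklyRegular_triple {R : Type*} [CommRing R] {a b c : R}
    (ha : ∀ x, a * x = 0 → x = 0) (hb : ∀ x, b * x ∈ Ideal.span {a} → x ∈ Ideal.span {a})
    (hc : ∀ x, c * x ∈ Ideal.span {a, b} → x ∈ Ideal.span {a, b}) :
    IsWeaklyRegular R [a, b, c] := by
  refine ⟨fun i hi => ?_⟩
  rw [isSMulRegular_quotient_iff_mem_of_smul_mem]
  intro x hx
  simp only [smul_eq_mul, Ideal.mul_top] at hx ⊢
  match i, hi with
  | 0, _ => simp only [List.take_zero, Ideal.ofList_nil, Ideal.mem_bot] at hx ⊢; exact ha x hx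
  | 1, _ =>
    simp only [List.take_succ_cons, List.take_zero, Ideal.ofList_singleton] at hx ⊢
    exact hb x hx
  | 2, _ =>
    simp only [List.take_succ_cons, List.take_zero, Ideal.ofList_cons, Ideal.ofList_nil,
      sup_bot_eq, ← Ideal.span_insert] at hx ⊢
    exact hc x hx

variable (A)

/-- Pulling back regularity along the change of coordinates. -/
lemma nzd_coord {S : Set (Lie3Mod.D A)} {T : Set P} (hS : coord A '' S = T) {q : Lie3Mod.D A}
    {q' : P} (hq : coord A q = q') (h : ∀ x : P, q' * x ∈ Ideal.span T → x ∈ Ideal.span T) :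
    ∀ x, q * x ∈ Ideal.span S → x ∈ Ideal.span S := by
  intro x hx
  rw [mem_span_coord, hS] at hx ⊢
  rw [map_mul, hq] at hx
  exact h _ hx

open RingTheory.Sequence in
lemma isRegular_of_nzd [Nontrivial A] {a b c : Lie3Mod.D A} {a' b' c' : P} (ha : coord A a = a')
    (hb : coord A b = b') (hc : coord A c = c')
    (h0 : ∀ x : P, a' * x ∈ (⊥ : Ideal P) → x ∈ (⊥ : Ideal P))
    (h1 : ∀ x : P, b' * x ∈ Ideal.span {a'} → x ∈ Ideal.span {a'})
    (h2 : ∀ x : P, c' * x ∈ Ideal.span {a', b'} → x ∈ Ideal.span {a', b'})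
    (hev : ∀ y ∈ ({a', b', c'} : Set P), constantCoeff y = 0) :
    IsRegular (Lie3Mod.D A) [a, b, c] := by
  refine ⟨isWeaklyRegular_triple (fun x hx => ?_)
    (nzd_coord A (by simp [ha]) hb h1) (nzd_coord A (by simp [Set.image_insert_eq, ha, hb]) hc h2),
    fun he => ?_⟩
  · have := h0 (coord A x) (by rw [← ha, ← map_mul, hx, map_zero]; exact zero_mem _)
    rw [Ideal.mem_bot] at this
    exact (map_eq_zero_iff _ (coord A).injective).mp this
  · rw [smul_eq_mul, Ideal.mul_top] at he
    have h1' : (1 : Lie3Mod.D A) ∈ Ideal.span {a, b, c} := by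
      have : (1 : Lie3Mod.D A) ∈ Ideal.ofList [a, b, c] := he ▸ Submodule.mem_top
      simpa [Ideal.ofList_cons, ← Ideal.span_insert] using this
    rw [mem_span_coord, map_one] at h1'
    simp only [Set.image_insert_eq, Set.image_singleton, ha, hb, hc] at h1'
    obtain ⟨u, v, w, e⟩ := mem_span_triple.mp h1'
    have := congr_arg constantCoeff e
    simp [hev a' (by simp), hev b' (by simp), hev c' (by simp)] at this

end Groth.Agent.Lie3
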